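import Groth.Agent.AdicFlatLib.Main
import Groth.Agent.SmDefLib.Deform
import Mathlib

/-!
# The two equivalences
-/

set_option autoImplicit false
set_option linter.all false
set_option maxHeartbeats 1000000
set_option backward.isDefEq.respectTransparency false
set_option backward.isDefEq.respectTransparency.types false

universe u

open AlgebraicGeometry CategoryTheory Limits FlatLib

namespace AdicFlatLib

variable {V A : Type u} [CommRing V] [CommRing A] [Algebra V A] {X : Scheme.{u}} (h : X ⟶ Spec (.of A)) [IsProper h]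
  [IsNoetherianRing A] (J : Ideal V)

/-- `Spec A → Spec V`. -/
noncomputable abbrev base (V A : Type u) [CommRing V] [CommRing A] [Algebra V A] : Spec (.of A) ⟶ Spec (.of V) :=
  Spec.map (CommRingCat.ofHom (algebraMap V A))

theorem base_mem_iff (x : Spec (.of A)) :
    J ≤ (base V A x : PrimeSpectrum V).asIdeal ↔ J.map (algebraMap V A) ≤ (x : PrimeSpectrum A).asIdeal :=
  Ideal.map_le_iff_le_comap.symm

theorem flatAt_of_closed [Flat (h ≫ base V A)] [IsNoetherianRing V] [Algebra.FiniteType V A]
    (hq : Flat (pullback.snd h (Spec.map (CommRingCat.ofHom (Ideal.Quotient.mk (J.map (algebraMap V A)))))))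
    (x₀ : X) (hx₀ : J.map (algebraMap V A) ≤ (h x₀ : PrimeSpectrum A).asIdeal) : FlatAt h x₀ := by
  haveI : LocallyOfFiniteType (base V A) := by
    rw [HasRingHomProperty.Spec_iff (P := @LocallyOfFiniteType)]
    exact RingHom.finiteType_algebraMap.2 inferInstance
  haveI : LocallyOfFinitePresentation (h ≫ base V A) := SmDefLib.lfp_of_lft _
  haveI : Flat (MoreMor.fiberMap h (base V A) ((h ≫ base V A) x₀)) :=
    fiberMap_of_quotient (V := V) (A := A) h @Flat J ((h ≫ base V A) x₀) ((base_mem_iff J (h x₀)).2 hx₀) hq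
  exact flatAt_of_fiberMap x₀ ((h ≫ base V A).asFiber x₀) (Scheme.Hom.fiberι_asFiber _ _) (flatAt_of_flat _ _)
    (flatAt_of_flat _ _)

theorem flat_completion [Flat (h ≫ base V A)] [IsNoetherianRing V] [Algebra.FiniteType V A]
    (hq : Flat (pullback.snd h (Spec.map (CommRingCat.ofHom (Ideal.Quotient.mk (J.map (algebraMap V A))))))) :
    Flat (pullback.snd h (Spec.map (CommRingCat.ofHom
      (algebraMap A (AdicCompletion (J.map (algebraMap V A)) A))))) := by
  haveI : LocallyOfFinitePresentation h := SmDefLib.lfp_of_lft h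
  let c := Spec.map (CommRingCat.ofHom (algebraMap A (AdicCompletion (J.map (algebraMap V A)) A)))
  rw [Flat.iff_flat_stalkMap]
  intro x'
  refine flatAt_baseChange (IsPullback.of_hasPullback h c) ?_
  obtain ⟨x₀, hx₀, hJ⟩ := exists_specializes h (J.map (algebraMap V A)) (pullback.fst h c x') (pullback.snd h c x')
    (congrArg (fun φ => φ x') (pullback.condition (f := h) (g := c))).symm
  exact hx₀.mem_open (isOpen_setOf_flat_stalkMap h) (flatAt_of_closed h J hq x₀ hJ)

theorem flatAt_of_flat_completion
    (hc : Flat (pullback.snd h (Spec.map (CommRingCat.ofHom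
      (algebraMap A (AdicCompletion (J.map (algebraMap V A)) A))))))
    (x : X) (hx : J.map (algebraMap V A) ≤ (h x : PrimeSpectrum A).asIdeal) : FlatAt h x := by
  let c := Spec.map (CommRingCat.ofHom (algebraMap A (AdicCompletion (J.map (algebraMap V A)) A)))
  haveI : Flat c := by
    rw [HasRingHomProperty.Spec_iff (P := @Flat)]
    exact RingHom.flat_algebraMap_iff.2 inferInstance
  obtain ⟨x', hx'⟩ := exists_preimage_completion h (J.map (algebraMap V A)) x hx
  rw [← hx']
  refine flatAt_of_comp (f := pullback.fst h c) (flatAt_of_flat _ _) ?_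
  rw [flatAt_congr pullback.condition]
  haveI := hc
  exact flatAt_of_flat _ _

theorem flat_comp_of_completion [IsDomain V] [IsLocalRing V] [Ring.DimensionLEOne V] [Algebra.Smooth V A]
    (hc : Flat (pullback.snd h (Spec.map (CommRingCat.ofHom
      (algebraMap A (AdicCompletion ((IsLocalRing.maximalIdeal V).map (algebraMap V A)) A)))))) :
    Flat (h ≫ base V A) := by
  haveI : Smooth (base V A) := by
    rw [HasRingHomProperty.Spec_iff (P := @Smooth)]
    exact RingHom.smooth_algebraMap.2 inferInstance
  rw [Flat.iff_flat_stalkMap]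
  intro x
  by_cases hb : ((h ≫ base V A) x : PrimeSpectrum V).asIdeal = ⊥
  · exact flatAt_of_bot _ _ hb
  · refine flatAt_comp (flatAt_of_flat_completion h (IsLocalRing.maximalIdeal V) hc x ?_) (flatAt_of_flat _ _)
    rw [← base_mem_iff]
    haveI := Ring.DimensionLEOne.maximalOfPrime hb ((h ≫ base V A) x : PrimeSpectrum V).2
    exact (IsLocalRing.eq_maximalIdeal this).ge

/-- The flat case. -/
theorem flat_iff [IsDomain V] [IsLocalRing V] [Ring.DimensionLEOne V] [IsNoetherianRing V] [Algebra.Smooth V A] :
    (Flat (h ≫ base V A) ∧ Flat (pullback.snd h (Spec.map (CommRingCat.ofHom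
      (Ideal.Quotient.mk ((IsLocalRing.maximalIdeal V).map (algebraMap V A))))))) ↔
    Flat (pullback.snd h (Spec.map (CommRingCat.ofHom
      (algebraMap A (AdicCompletion ((IsLocalRing.maximalIdeal V).map (algebraMap V A)) A))))) := by
  refine ⟨fun ⟨h1, h2⟩ => ?_, fun hc => ⟨flat_comp_of_completion h hc, quotient_of_completion h @Flat _ hc⟩⟩
  haveI := h1
  exact flat_completion h _ h2

/-- The smooth case. -/
theorem smooth_iff [IsDomain V] [IsLocalRing V] [Ring.DimensionLEOne V] [IsNoetherianRing V] [Algebra.Smooth V A] :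
    (Flat (h ≫ base V A) ∧ Smooth (pullback.snd h (Spec.map (CommRingCat.ofHom
      (Ideal.Quotient.mk ((IsLocalRing.maximalIdeal V).map (algebraMap V A))))))) ↔
    Smooth (pullback.snd h (Spec.map (CommRingCat.ofHom
      (algebraMap A (AdicCompletion ((IsLocalRing.maximalIdeal V).map (algebraMap V A)) A))))) := by
  refine ⟨fun ⟨h1, h2⟩ => ?_, fun hc => ?_⟩
  · haveI := h1
    haveI := h2
    haveI : LocallyOfFinitePresentation h := SmDefLib.lfp_of_lft h
    let J := IsLocalRing.maximalIdeal V
    let c := Spec.map (CommRingCat.ofHom (algebraMap A (AdicCompletion (J.map (algebraMap V A)) A)))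
    have htop : pullback.fst h c ⁻¹ᵁ h.smoothLocus = ⊤ := by
      refine TopologicalSpace.Opens.ext (Set.eq_univ_iff_forall.2 fun x' => ?_)
      obtain ⟨x₀, hx₀, hJ⟩ := exists_specializes h (J.map (algebraMap V A)) (pullback.fst h c x') (pullback.snd h c x')
        (congrArg (fun φ => φ x') (pullback.condition (f := h) (g := c))).symm
      refine hx₀.mem_open h.smoothLocus.2 ?_
      haveI := fiber_of_quotient h @Smooth (J.map (algebraMap V A)) (h x₀) hJ h2
      refine (Groth.Agent.S2156.result h x₀).2 ⟨flatAt_of_closed h J inferInstance x₀ hJ, ?_⟩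
      rw [Scheme.Hom.smoothLocus_eq_top]
      trivial
    haveI : Smooth (h.smoothLocus.ι ≫ h) := by
      rw [← Scheme.Hom.smoothLocus_eq_top_iff, ← Scheme.Hom.preimage_smoothLocus_eq]
      exact TopologicalSpace.Opens.ext (Set.eq_univ_iff_forall.2 fun z => z.2)
    haveI : Smooth ((pullback.fst h c ⁻¹ᵁ h.smoothLocus).ι ≫ pullback.snd h c) :=
      MorphismProperty.of_isPullback ((isPullback_morphismRestrict (pullback.fst h c) h.smoothLocus).paste_vert
        (IsPullback.of_hasPullback h c)) inferInstance
    rw [htop] at this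
    have hS := this
    haveI : IsIso (⊤ : (pullback h c).Opens).ι := ⟨⟨(pullback h c).topIso.inv, (pullback h c).topIso.hom_inv_id,
      (pullback h c).topIso.inv_hom_id⟩⟩
    exact (MorphismProperty.cancel_left_of_respectsIso @Smooth (⊤ : (pullback h c).Opens).ι (pullback.snd h c)).1 hS
  · haveI := hc
    exact ⟨flat_comp_of_completion h inferInstance, quotient_of_completion h @Smooth _ hc⟩

end AdicFlatLib
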