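import Groth.Agent.FlatLib.FlatLocusScheme
import Groth.Agent.S2156
import Mathlib

/-!
# Flatness and smoothness over an adic completion, for proper morphisms
-/

set_option autoImplicit false
set_option linter.all false
set_option maxHeartbeats 1000000
set_option backward.isDefEq.respectTransparency false
set_option backward.isDefEq.respectTransparency.types false

universe u

open AlgebraicGeometry CategoryTheory Limits

namespace AdicFlatLib

/-- A morphism from an affine scheme factors through the quotient. -/
theorem exists_lift_quotient {A : Type u} [CommRing A] (J : Ideal A) {T : Scheme.{u}} [IsAffine T]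
    (u : T ⟶ Spec (.of A)) (hu : ∀ a ∈ J, (Spec.preimage (T.isoSpec.inv ≫ u)).hom a = 0) :
    ∃ j : T ⟶ Spec (.of (A ⧸ J)), j ≫ Spec.map (CommRingCat.ofHom (Ideal.Quotient.mk J)) = u := by
  refine ⟨T.isoSpec.hom ≫ Spec.map (CommRingCat.ofHom (Ideal.Quotient.lift J (Spec.preimage (T.isoSpec.inv ≫ u)).hom hu)), ?_⟩
  rw [Category.assoc, ← Spec.map_comp]
  have e : CommRingCat.ofHom (Ideal.Quotient.mk J) ≫
      CommRingCat.ofHom (Ideal.Quotient.lift J (Spec.preimage (T.isoSpec.inv ≫ u)).hom hu) =
      Spec.preimage (T.isoSpec.inv ≫ u) := by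
    ext a
    rfl
  rw [e, Spec.map_preimage, Iso.hom_inv_id_assoc]

/-- A base change along a morphism factoring through another base. -/
theorem of_lift (P : MorphismProperty Scheme.{u}) [P.IsStableUnderBaseChange] {X Y Q T W : Scheme.{u}} {h : X ⟶ Y}
    {a : W ⟶ X} {b : W ⟶ T} {t : T ⟶ Y} (sq : IsPullback a b h t) (q : Q ⟶ Y) (j : T ⟶ Q) (hj : j ≫ q = t)
    (hP : P (pullback.snd h q)) : P b := by
  subst hj
  refine MorphismProperty.of_isPullback (f' := pullback.lift a (b ≫ j) (by rw [Category.assoc]; exact sq.w))
    (g := pullback.snd h q) (f := j) ?_ hP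
  refine IsPullback.of_right ?_ (pullback.lift_snd _ _ _) (IsPullback.of_hasPullback h q)
  rw [pullback.lift_fst]
  exact sq

/-- The spectrum of a residue field at a point of the closed subscheme factors through the quotient. -/
theorem exists_residue_lift {A : Type u} [CommRing A] (J : Ideal A) (p : PrimeSpectrum A) (hJ : J ≤ p.asIdeal) :
    ∃ φ : Spec ((Spec (.of A)).residueField p) ⟶ Spec (.of (A ⧸ J)),
      φ ≫ Spec.map (CommRingCat.ofHom (Ideal.Quotient.mk J)) = (Spec (.of A)).fromSpecResidueField p := by
  refine ⟨Spec.map (Scheme.Spec.residueFieldIso (.of A) p).inv ≫ Spec.map (CommRingCat.ofHom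
    (Ideal.Quotient.lift J (algebraMap A p.asIdeal.ResidueField) fun a ha =>
      Ideal.algebraMap_residueField_eq_zero.mpr (hJ ha))), ?_⟩
  rw [Category.assoc, ← Spec.map_comp]
  exact Scheme.Spec.map_residueFieldIso_inv_eq_fromSpecResidueField (.of A) p

variable {V A : Type u} [CommRing V] [CommRing A] [Algebra V A]

/-- The fibre of the spectrum over a point factors through the quotient. -/
theorem exists_fiber_lift (J : Ideal V) (s : PrimeSpectrum V) (hJ : J ≤ s.asIdeal) :
    ∃ j : (Spec.map (CommRingCat.ofHom (algebraMap V A))).fiber s ⟶ Spec (.of (A ⧸ J.map (algebraMap V A))),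
      j ≫ Spec.map (CommRingCat.ofHom (Ideal.Quotient.mk (J.map (algebraMap V A)))) =
        (Spec.map (CommRingCat.ofHom (algebraMap V A))).fiberι s := by
  let g := Spec.map (CommRingCat.ofHom (algebraMap V A))
  haveI : IsAffine (g.fiber s) := inferInstanceAs (IsAffine (pullback g _))
  obtain ⟨φ, hφ⟩ := exists_residue_lift J s hJ
  refine exists_lift_quotient _ _ fun a ha => ?_
  have key : CommRingCat.ofHom (algebraMap V A) ≫ Spec.preimage ((g.fiber s).isoSpec.inv ≫ g.fiberι s) =
      CommRingCat.ofHom (Ideal.Quotient.mk J) ≫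
        Spec.preimage ((g.fiber s).isoSpec.inv ≫ g.fiberToSpecResidueField s ≫ φ) := by
    apply Spec.map_injective
    simp only [Spec.map_comp, Spec.map_preimage, Category.assoc]
    rw [hφ]
    exact congrArg _ (g.fiber_fac s)
  have hle : J.map (algebraMap V A) ≤ RingHom.ker (Spec.preimage ((g.fiber s).isoSpec.inv ≫ g.fiberι s)).hom := by
    rw [Ideal.map_le_iff_le_comap]
    intro v hv
    rw [Ideal.mem_comap, RingHom.mem_ker]
    refine (RingHom.congr_fun (congrArg CommRingCat.Hom.hom key) v).trans ?_
    simp only [CommRingCat.hom_comp, CommRingCat.hom_ofHom, RingHom.comp_apply]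
    rw [Ideal.Quotient.eq_zero_iff_mem.2 hv, map_zero]
  exact hle ha

variable {X : Scheme.{u}} (h : X ⟶ Spec (.of A))

/-- The fibre map over a point is a base change of the restriction to the quotient. -/
theorem fiberMap_of_quotient (P : MorphismProperty Scheme.{u}) [P.IsStableUnderBaseChange] (J : Ideal V)
    (s : PrimeSpectrum V) (hJ : J ≤ s.asIdeal)
    (hP : P (pullback.snd h (Spec.map (CommRingCat.ofHom (Ideal.Quotient.mk (J.map (algebraMap V A))))))) :
    P (MoreMor.fiberMap h (Spec.map (CommRingCat.ofHom (algebraMap V A))) s) := by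
  obtain ⟨j, hj⟩ := exists_fiber_lift (A := A) J s hJ
  have sq := FlatLib.isPullback_fiberMap h (Spec.map (CommRingCat.ofHom (algebraMap V A))) s
  exact of_lift P sq _ j hj hP

/-- The fibre over a point of the closed subscheme is a base change of the restriction to the quotient. -/
theorem fiber_of_quotient (P : MorphismProperty Scheme.{u}) [P.IsStableUnderBaseChange] (J : Ideal A)
    (p : PrimeSpectrum A) (hJ : J ≤ p.asIdeal)
    (hP : P (pullback.snd h (Spec.map (CommRingCat.ofHom (Ideal.Quotient.mk J))))) :
    P (h.fiberToSpecResidueField p) := by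
  obtain ⟨φ, hφ⟩ := exists_residue_lift J p hJ
  exact of_lift P (IsPullback.of_hasPullback _ _) _ φ hφ hP

/-- Points in the image of the completion specialise into the closed subscheme. -/
theorem exists_specializes [IsProper h] [IsNoetherianRing A] (I : Ideal A) (x : X)
    (y : PrimeSpectrum (AdicCompletion I A))
    (hy : Spec.map (CommRingCat.ofHom (algebraMap A (AdicCompletion I A))) y = h x) :
    ∃ x₀ : X, x ⤳ x₀ ∧ I ≤ (h x₀ : PrimeSpectrum A).asIdeal := by
  obtain ⟨n, hn, hyn⟩ := Ideal.exists_le_maximal y.asIdeal y.2.ne_top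
  haveI := hn
  haveI : IsAdicComplete (I.map (algebraMap A (AdicCompletion I A))) (AdicCompletion I A) :=
    (IsAdicComplete.map_algebraMap_iff (S := AdicCompletion I A) I (AdicCompletion I A)).2 (AdicCompletion.isAdicComplete (IsNoetherian.noetherian I))
  have hI : I.map (algebraMap A (AdicCompletion I A)) ≤ n :=
    (IsAdicComplete.le_jacobson_bot _).trans (sInf_le ⟨bot_le, hn⟩)
  let q : PrimeSpectrum A := PrimeSpectrum.comap (algebraMap A (AdicCompletion I A)) ⟨n, hn.isPrime⟩
  have hspec : h x ⤳ q := by
    rw [← hy, ← PrimeSpectrum.le_iff_specializes]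
    exact Ideal.comap_mono hyn
  obtain ⟨x₀, hx₀, hhx₀⟩ := (Scheme.Hom.isClosedMap h).specializingMap hspec
  exact ⟨x₀, hx₀, by rw [hhx₀]; exact Ideal.map_le_iff_le_comap.1 hI⟩

/-- A property of the base change to the completion passes to the quotient. -/
theorem quotient_of_completion (P : MorphismProperty Scheme.{u}) [P.IsStableUnderBaseChange] (I : Ideal A)
    (hP : P (pullback.snd h (Spec.map (CommRingCat.ofHom (algebraMap A (AdicCompletion I A)))))) :
    P (pullback.snd h (Spec.map (CommRingCat.ofHom (Ideal.Quotient.mk I)))) := by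
  let e : AdicCompletion I A →+* A ⧸ I :=
    (Ideal.Quotient.factor (by rw [pow_one] : I ^ 1 ≤ I)).comp (AdicCompletion.evalₐ I 1).toRingHom
  have he : e.comp (algebraMap A (AdicCompletion I A)) = Ideal.Quotient.mk I := by
    ext a
    exact congrArg (Ideal.Quotient.factor (by rw [pow_one] : I ^ 1 ≤ I))
      ((AdicCompletion.evalₐ I 1).commutes a)
  let c := Spec.map (CommRingCat.ofHom (algebraMap A (AdicCompletion I A)))
  let q := Spec.map (CommRingCat.ofHom (Ideal.Quotient.mk I))
  have hq : Spec.map (CommRingCat.ofHom e) ≫ c = q := by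
    rw [← Spec.map_comp, ← CommRingCat.ofHom_comp, he]
  exact of_lift P (IsPullback.of_hasPullback h q) _ (Spec.map (CommRingCat.ofHom e)) hq hP

/-- Points over the closed subscheme lift to the completion. -/
theorem exists_preimage_completion (I : Ideal A) (x : X) (hx : I ≤ (h x : PrimeSpectrum A).asIdeal) :
    ∃ x' : ↥(pullback h (Spec.map (CommRingCat.ofHom (algebraMap A (AdicCompletion I A))))),
      pullback.fst h (Spec.map (CommRingCat.ofHom (algebraMap A (AdicCompletion I A)))) x' = x := by
  let e : AdicCompletion I A →+* A ⧸ I :=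
    (Ideal.Quotient.factor (by rw [pow_one] : I ^ 1 ≤ I)).comp (AdicCompletion.evalₐ I 1).toRingHom
  have he : e.comp (algebraMap A (AdicCompletion I A)) = Ideal.Quotient.mk I := by
    ext a
    exact congrArg (Ideal.Quotient.factor (by rw [pow_one] : I ^ 1 ≤ I))
      ((AdicCompletion.evalₐ I 1).commutes a)
  obtain ⟨w, hw⟩ : (h x : PrimeSpectrum A) ∈ Set.range (PrimeSpectrum.comap (Ideal.Quotient.mk I)) := by
    rw [range_comap_of_surjective _ _ Ideal.Quotient.mk_surjective, Ideal.mk_ker]
    exact hx
  obtain ⟨x', hx', -⟩ := Scheme.Pullback.exists_preimage_pullback x (PrimeSpectrum.comap e w)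
    (f := h) (g := Spec.map (CommRingCat.ofHom (algebraMap A (AdicCompletion I A)))) (by
      refine hw.symm.trans ?_
      rw [← he, PrimeSpectrum.comap_comp]
      rfl)
  exact ⟨x', hx'⟩

section Field

/-- Flatness at a point over the generic point of a discrete valuation ring. -/
theorem flatAt_of_bot {V : Type u} [CommRing V] [IsDomain V] {Y : Scheme.{u}} (f : Y ⟶ Spec (.of V)) (y : Y)
    (hy : (f y : PrimeSpectrum V).asIdeal = ⊥) : FlatLib.FlatAt f y := by
  have hF : IsField ((Spec (.of V)).presheaf.stalk (f y)) := by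
    have e : f y = genericPoint (Spec (.of V)) := by
      rw [genericPoint_eq_bot_of_affine]
      exact PrimeSpectrum.ext hy
    rw [e]
    exact Field.toIsField (Spec (.of V)).functionField
  letI := hF.toField
  show @Module.Flat _ _ _ _ (f.stalkMap y).hom.toModule
  infer_instance

end Field

end AdicFlatLib
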